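import Groth.Agent.MilnorK.Rep
import Mathlib.RingTheory.DiscreteValuationRing.Basic
import Mathlib.RingTheory.LocalRing.ResidueField.Basic
import Mathlib.Tactic.LinearCombination

/-! Decomposition of units of the fraction field of a discrete valuation ring. -/

universe u v

namespace Groth.Agent.MilnorK

open MilK IsLocalRing

variable {A : Type u} [CommRing A] [IsDomain A] [IsDiscreteValuationRing A]
  (L : Type v) [Field L] [Algebra A L] [IsFractionRing A L] {ϖ : A} (hϖ : Irreducible ϖ)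

/-- The uniformizer as a unit of the fraction field. -/
noncomputable abbrev unif : Lˣ := unitFrac A L ϖ hϖ.ne_zero

theorem coe_unitToFrac (u : Aˣ) : (unitToFrac A L u : L) = algebraMap A L u := rfl

theorem exists_decomp (x : Lˣ) : ∃ (e : ℤ) (u : Aˣ), x = unif L hϖ ^ e * unitToFrac A L u := by
  obtain ⟨a, b, hb, hab⟩ := IsFractionRing.div_surjective (A := A) (x : L)
  have hb0 : b ≠ 0 := nonZeroDivisors.ne_zero hb
  have ha0 : a ≠ 0 := by
    rintro rfl
    rw [map_zero, zero_div] at hab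
    exact x.ne_zero hab.symm
  obtain ⟨n, u, rfl⟩ := IsDiscreteValuationRing.eq_unit_mul_pow_irreducible ha0 hϖ
  obtain ⟨m, v, rfl⟩ := IsDiscreteValuationRing.eq_unit_mul_pow_irreducible hb0 hϖ
  refine ⟨(n : ℤ) - m, u * v⁻¹, Units.ext ?_⟩
  rw [← hab]
  simp only [map_mul, map_pow, Units.val_mul, Units.val_zpow_eq_zpow_val, coe_unitFrac,
    coe_unitToFrac]
  have h0 : algebraMap A L ϖ ≠ 0 := by simpa using hϖ.ne_zero
  have hv : algebraMap A L (v : A) ≠ 0 := by simp
  rw [map_units_inv, zpow_sub₀ h0, zpow_natCast, zpow_natCast]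
  field_simp

theorem zpow_unif_eq_unit {k : ℤ} {w : Aˣ} (h : unif L hϖ ^ k = unitToFrac A L w) : k = 0 := by
  have key : ∀ (n : ℕ) (w : Aˣ), unif L hϖ ^ n = unitToFrac A L w → n = 0 := by
    intro n w h
    have h' : algebraMap A L (ϖ ^ n) = algebraMap A L w := by
      simpa [map_pow, coe_unitToFrac] using congrArg Units.val h
    by_contra hn
    exact hϖ.not_isUnit ((isUnit_pow_iff hn).mp (IsFractionRing.injective A L h' ▸ w.isUnit))
  rcases Int.eq_nat_or_neg k with ⟨n, rfl | rfl⟩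
  · simpa using key n w (by simpa using h)
  · have := key n w⁻¹ (by rw [map_inv, ← h, zpow_neg, inv_inv, zpow_natCast])
    simp [this]

theorem decomp_unique {e f : ℤ} {u v : Aˣ}
    (h : unif L hϖ ^ e * unitToFrac A L u = unif L hϖ ^ f * unitToFrac A L v) : e = f ∧ u = v := by
  have h' : unif L hϖ ^ (e - f) = unitToFrac A L (v * u⁻¹) := by
    rw [zpow_sub, map_mul, map_inv, mul_inv_eq_iff_eq_mul, eq_comm, mul_right_comm,
      mul_inv_eq_iff_eq_mul, eq_comm, h, mul_comm]
  have he : e = f := sub_eq_zero.mp (zpow_unif_eq_unit L hϖ h')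
  subst he
  refine ⟨rfl, ?_⟩
  have h2 := congrArg Units.val (mul_left_cancel h)
  exact Units.ext (IsFractionRing.injective A L h2)

/-- The valuation of a unit of the fraction field. -/
noncomputable def ordU (x : Lˣ) : ℤ := (exists_decomp L hϖ x).choose

/-- The unit part of a unit of the fraction field. -/
noncomputable def unitPart (x : Lˣ) : Aˣ := (exists_decomp L hϖ x).choose_spec.choose

theorem decomp_eq (x : Lˣ) :
    x = unif L hϖ ^ ordU L hϖ x * unitToFrac A L (unitPart L hϖ x) :=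
  (exists_decomp L hϖ x).choose_spec.choose_spec

theorem ordU_unitPart_of_eq {x : Lˣ} {e : ℤ} {u : Aˣ}
    (h : x = unif L hϖ ^ e * unitToFrac A L u) : ordU L hϖ x = e ∧ unitPart L hϖ x = u :=
  decomp_unique L hϖ (by rw [← decomp_eq, ← h])

theorem ordU_unitPart_unit (u : Aˣ) :
    ordU L hϖ (unitToFrac A L u) = 0 ∧ unitPart L hϖ (unitToFrac A L u) = u :=
  ordU_unitPart_of_eq L hϖ (by simp)

theorem ordU_unitPart_unif : ordU L hϖ (unif L hϖ) = 1 ∧ unitPart L hϖ (unif L hϖ) = 1 :=
  ordU_unitPart_of_eq L hϖ (by simp)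

theorem ordU_unitPart_mul (x y : Lˣ) :
    ordU L hϖ (x * y) = ordU L hϖ x + ordU L hϖ y ∧
      unitPart L hϖ (x * y) = unitPart L hϖ x * unitPart L hϖ y :=
  ordU_unitPart_of_eq L hϖ (by
    conv_lhs => rw [decomp_eq L hϖ x, decomp_eq L hϖ y]
    rw [mul_mul_mul_comm, zpow_add, map_mul])

include hϖ in
theorem residue_unit_pow {n : ℕ} (hn : n ≠ 0) : residue A (ϖ ^ n) = 0 :=
  (residue_eq_zero_iff _).mpr (Ideal.pow_mem_of_mem _ hϖ.not_isUnit n (Nat.pos_of_ne_zero hn))

theorem cases_sum_one {x y : Lˣ} (hxy : (x : L) + y = 1) :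
    (0 < ordU L hϖ x → ordU L hϖ y = 0 ∧ unitResidue A (unitPart L hϖ y) = 1) ∧
    (ordU L hϖ x < 0 → ordU L hϖ y = ordU L hϖ x ∧
      unitResidue A (unitPart L hϖ y) = -unitResidue A (unitPart L hϖ x)) := by
  have hx := congrArg Units.val (decomp_eq L hϖ x)
  rw [Units.val_mul, coe_unitToFrac, Units.val_zpow_eq_zpow_val, coe_unitFrac] at hx
  have h0 : algebraMap A L ϖ ≠ 0 := by simpa using hϖ.ne_zero
  constructor
  · intro he
    obtain ⟨n, hn⟩ : ∃ n : ℕ, ordU L hϖ x = n := ⟨_, (Int.toNat_of_nonneg he.le).symm⟩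
    have hn0 : n ≠ 0 := by omega
    rw [hn, zpow_natCast] at hx
    set a : A := 1 - ϖ ^ n * (unitPart L hϖ x : A)
    have hres : residue A a = 1 := by simp [a, map_sub, residue_unit_pow hϖ hn0, -map_pow]
    have ha : IsUnit a := (residue_ne_zero_iff_isUnit a).mp (by rw [hres]; exact one_ne_zero)
    have hy : y = unif L hϖ ^ (0 : ℤ) * unitToFrac A L ha.unit := by
      rw [zpow_zero, one_mul]
      refine Units.ext ?_
      rw [coe_unitToFrac, IsUnit.unit_spec]
      simp only [a, map_sub, map_one, map_mul, map_pow]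
      linear_combination hxy - hx
    obtain ⟨h1, h2⟩ := ordU_unitPart_of_eq L hϖ hy
    exact ⟨h1, Units.ext (by rw [h2]; exact hres)⟩
  · intro he
    obtain ⟨n, hn⟩ : ∃ n : ℕ, ordU L hϖ x = -(n : ℤ) := ⟨(-ordU L hϖ x).toNat, by omega⟩
    have hn0 : n ≠ 0 := by omega
    rw [hn, zpow_neg, zpow_natCast] at hx
    set a : A := ϖ ^ n - (unitPart L hϖ x : A)
    have hres : residue A a = -residue A (unitPart L hϖ x : A) := by
      simp [a, map_sub, residue_unit_pow hϖ hn0, -map_pow]
    have ha : IsUnit a := (residue_ne_zero_iff_isUnit a).mp (by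
      rw [hres, neg_ne_zero, residue_ne_zero_iff_isUnit]; exact Units.isUnit _)
    have hy : y = unif L hϖ ^ ordU L hϖ x * unitToFrac A L ha.unit := by
      refine Units.ext ?_
      rw [Units.val_mul, coe_unitToFrac, IsUnit.unit_spec, Units.val_zpow_eq_zpow_val,
        coe_unitFrac, hn, zpow_neg, zpow_natCast]
      simp only [a, map_sub, map_pow]
      rw [mul_sub, inv_mul_cancel₀ (pow_ne_zero _ h0)]
      linear_combination hxy - hx
    obtain ⟨h1, h2⟩ := ordU_unitPart_of_eq L hϖ hy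
    exact ⟨h1, Units.ext (by rw [h2]; exact hres)⟩

end Groth.Agent.MilnorK
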