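import Groth.Agent.MilnorK.Kernel

/-! Functoriality of tame symbols and some formulas. -/

universe u u' v v'

namespace Groth.Agent.MilnorK

open MilK IsLocalRing

theorem symbol_singleton {F : Type u} [Field F] (a : Fˣ) :
    (symbol ![a] : K F 1) = consK F 0 (.ofMul a) (symbol ![]) := by
  rw [consK_symbol]
  rfl

theorem cast_mul_one {F : Type u} [Field F] {n : ℕ} (a : Fˣ) (z : K F n) :
    MilK.cast F (Nat.add_comm 1 n) (mul F 1 n (symbol ![a]) z) = consK F n (.ofMul a) z := by
  simp only [consK, AddMonoidHom.mk'_apply, AddMonoidHom.coe_comp, AddEquiv.coe_toAddMonoidHom,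
    Function.comp_apply, K1_symm]
  rw [show (![a] : Fin 1 → Fˣ) = fun _ => a from funext fun i => by
    obtain rfl : i = 0 := Subsingleton.elim i 0
    rfl]

variable {A : Type u} [CommRing A] [IsDomain A] [IsDiscreteValuationRing A]
  {L : Type v} [Field L] [Algebra A L] [IsFractionRing A L] {ϖ : A} (hϖ : Irreducible ϖ)

set_option quotPrecheck false in
local notation "κ" => ResidueField A

omit [IsDomain A] [IsDiscreteValuationRing A] [IsFractionRing A L] in
theorem empty_mem_unitGrp : (symbol ![] : K L 0) ∈ unitGrp A L 0 := by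
  refine AddSubgroup.subset_closure ⟨fun i => i.elim0, congrArg symbol (funext fun i => i.elim0)⟩

theorem unitToFrac_neg_one : unitToFrac A L (-1 : Aˣ) = -1 :=
  Units.ext (by simp [coe_unitToFrac])

theorem ordU_unitPart_neg_unif :
    ordU L hϖ (-unif L hϖ) = 1 ∧ unitPart L hϖ (-unif L hϖ) = -1 :=
  ordU_unitPart_of_eq L hϖ (by rw [zpow_one, unitToFrac_neg_one]; simp)

/-- The residue of `{-ϖ} z` is the specialization of `z`. -/
theorem tame_neg_unif {n : ℕ} (z : K L n) :
    tame L hϖ n (MilK.cast L (Nat.add_comm 1 n)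
      (mul L 1 n (symbol ![-unitFrac A L ϖ hϖ.ne_zero]) z)) = specMap L hϖ n z := by
  rw [cast_mul_one]
  cases n with
  | zero =>
    induction z using induction_symbol with
    | hs x =>
      have hx : symbol x = (symbol ![] : K L 0) := congrArg symbol (funext fun i => i.elim0)
      rw [hx]
      change tame L hϖ 0 (consU L (-unif L hϖ) _) = _
      rw [tame_consU_unit_grp hϖ _ empty_mem_unitGrp, (ordU_unitPart_neg_unif hϖ).1, one_smul]
    | h0 => simp
    | hadd a b ha hb => simp [ha, hb]
    | hneg a ha => simp [ha]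
  | succ n =>
    obtain ⟨a, ha, b, -, rfl⟩ := exists_unit_add_unif L hϖ z
    change tame L hϖ (n + 1) (consU L (-unif L hϖ) _) = _
    rw [map_add, map_add, map_add, tame_consU_unit_grp hϖ _ ha, (ordU_unitPart_neg_unif hϖ).1,
      one_smul, specMap_consU_unif]
    have h : consK L (n + 1) (.ofMul (-unif L hϖ)) (consK L n (.ofMul (unif L hϖ)) b) = 0 := by
      refine ρ_injective _ ?_
      rw [ρ_consK, ρ_consK, ← mul_assoc, (sym_isSym L).anticomm, (sym_isSym L).mul_neg_self,
        neg_zero, zero_mul, map_zero]
    rw [show (consU L (-unif L hϖ)) ((consU L (unif L hϖ)) b) = 0 from h, map_zero]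

/-- The residue of `{u} z`, for a unit `u`. -/
theorem tame_consU_unit {n : ℕ} (u : Aˣ) (z : K L (n + 1)) :
    tame L hϖ (n + 1) (consK L (n + 1) (.ofMul (unitToFrac A L u)) z) =
      -(MilK.cast κ (Nat.add_comm 1 n)
          (mul κ 1 n (symbol ![unitResidue A u]) (tame L hϖ n z))) := by
  rw [cast_mul_one]
  obtain ⟨a, ha, b, hb, rfl⟩ := exists_unit_add_unif L hϖ z
  simp only [map_add, tame_unitGrp hϖ ha, tame_unitGrp hϖ (consK_unit_mem L u ha), map_zero,
    zero_add, consU, consK_anticomm (unitToFrac A L u) (unif L hϖ), map_neg]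
  congr 1
  change tame L hϖ (n + 1) (consU L (unif L hϖ) _) = consK κ n _ (tame L hϖ n (consU L (unif L hϖ) b))
  rw [tame_consU_unit_grp hϖ _ (consK_unit_mem L u hb), tame_consU_unit_grp hϖ _ hb,
    (ordU_unitPart_unif L hϖ).1, one_smul, one_smul]
  change specMap L hϖ (n + 1) (consU L (unitToFrac A L u) b) = _
  rw [specMap_consK, (ordU_unitPart_unit L hϖ u).2]

theorem tame_two (i j : ℤ) (u u' : Aˣ) :
    tame L hϖ 1 (symbol ![unitFrac A L ϖ hϖ.ne_zero ^ i * unitToFrac A L u,
        unitFrac A L ϖ hϖ.ne_zero ^ j * unitToFrac A L u']) =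
      symbol ![(-1) ^ (i * j) * unitResidue A u' ^ i * unitResidue A u ^ (-j)] := by
  have hsym : ∀ x y : Lˣ, (symbol ![x, y] : K L 2) =
      consK L 1 (.ofMul x) (consK L 0 (.ofMul y) (symbol ![])) := by
    intro x y
    rw [consK_symbol, consK_symbol]
    rfl
  have hpp : tame L hϖ 1 (consK L 1 (.ofMul (unif L hϖ))
      (consK L 0 (.ofMul (unif L hϖ)) (symbol ![]))) = symbol ![-1] := by
    rw [consK_self, ← unitToFrac_neg_one (A := A)]
    change tame L hϖ 1 (consU L (unif L hϖ) (consU L (unitToFrac A L (-1)) _)) = _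
    rw [tame_consU_unit_grp hϖ _ (consK_unit_mem L _ empty_mem_unitGrp),
      (ordU_unitPart_unif L hϖ).1, one_smul, consU, consK_symbol, specMap_symbol]
    refine congrArg symbol (funext fun k => ?_)
    obtain rfl : k = 0 := Subsingleton.elim (α := Fin 1) k 0
    simp only [Fin.cons_zero, (ordU_unitPart_unit L hϖ _).2, Matrix.cons_val_fin_one]
    exact Units.ext (by simp [unitResidue])
  have hpu : ∀ w : Aˣ, tame L hϖ 1 (consK L 1 (.ofMul (unif L hϖ))
      (consK L 0 (.ofMul (unitToFrac A L w)) (symbol ![]))) = symbol ![unitResidue A w] := by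
    intro w
    change tame L hϖ 1 (consU L (unif L hϖ) (consU L _ _)) = _
    rw [tame_consU_unit_grp hϖ _ (consK_unit_mem L _ empty_mem_unitGrp),
      (ordU_unitPart_unif L hϖ).1, one_smul, consU, consK_symbol, specMap_symbol]
    refine congrArg symbol (funext fun k => ?_)
    obtain rfl : k = 0 := Subsingleton.elim (α := Fin 1) k 0
    simp only [Fin.cons_zero, (ordU_unitPart_unit L hϖ _).2, Matrix.cons_val_fin_one]
  have huu : tame L hϖ 1 (consK L 1 (.ofMul (unitToFrac A L u))
      (consK L 0 (.ofMul (unitToFrac A L u')) (symbol ![]))) = 0 :=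
    tame_unitGrp hϖ (consK_unit_mem L _ (consK_unit_mem L _ empty_mem_unitGrp))
  rw [hsym, ofMul_mul, ofMul_mul, ofMul_zpow, ofMul_zpow]
  simp only [map_add, map_zsmul, AddMonoidHom.add_apply, AddMonoidHom.coe_smul, Pi.smul_apply,
    smul_add]
  rw [hpp, hpu, huu, consK_anticomm (unitToFrac A L u) (unitFrac A L ϖ hϖ.ne_zero), map_neg, hpu]
  refine (K1 κ).injective ?_
  simp only [map_add, map_zsmul, map_neg, map_zero, K1_symbol, Matrix.cons_val_fin_one, ofMul_mul,
    ofMul_zpow, smul_neg, smul_smul, neg_smul, add_zero]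
  rw [mul_comm j i]
  abel

section Maps

variable {E : Type v'} [Field E] [Algebra E A] [Algebra E L] [IsScalarTower E A L]

theorem map_mem_unitGrp {n : ℕ} (x : K E n) : MilK.map (algebraMap E L) n x ∈ unitGrp A L n := by
  induction x using induction_symbol with
  | hs w =>
    rw [map_symbol]
    refine AddSubgroup.subset_closure
      ⟨fun i => Units.map (algebraMap E A : E →* A) (w i), congrArg symbol (funext fun i => ?_)⟩
    exact Units.ext (by simp [coe_unitToFrac, ← IsScalarTower.algebraMap_apply])
  | h0 => simp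
  | hadd a b ha hb => rw [map_add]; exact add_mem ha hb
  | hneg a ha => rw [map_neg]; exact neg_mem ha

theorem tame_map_const {n : ℕ} (x : K E (n + 1)) :
    tame L hϖ n (MilK.map (algebraMap E L) (n + 1) x) = 0 :=
  tame_unitGrp hϖ (map_mem_unitGrp x)

theorem specMap_map_const {n : ℕ} (x : K E n) :
    specMap L hϖ n (MilK.map (algebraMap E L) n x) =
      MilK.map ((residue A).comp (algebraMap E A)) n x := by
  induction x using induction_symbol with
  | hs w =>
    rw [map_symbol, map_symbol, specMap_symbol]
    refine congrArg symbol (funext fun i => ?_)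
    have : Units.map (algebraMap E L : E →* L) (w i) =
        unitToFrac A L (Units.map (algebraMap E A : E →* A) (w i)) :=
      Units.ext (by simp [coe_unitToFrac, ← IsScalarTower.algebraMap_apply])
    rw [this, (ordU_unitPart_unit L hϖ _).2]
    exact Units.ext rfl
  | h0 => simp
  | hadd a b ha hb => simp [ha, hb]
  | hneg a ha => simp [ha]

end Maps

theorem tame_ramified {A B : Type u} [CommRing A] [IsDomain A] [IsDiscreteValuationRing A]
    [CommRing B] [IsDomain B] [IsDiscreteValuationRing B] [Algebra A B]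
    [IsLocalHom (algebraMap A B)]
    {E F : Type v} [Field E] [Field F] [Algebra A E] [IsFractionRing A E] [Algebra B F]
    [IsFractionRing B F] [Algebra E F] [Algebra A F] [IsScalarTower A E F] [IsScalarTower A B F]
    (e : ℕ) (he : Ideal.map (algebraMap A B) (maximalIdeal A) = maximalIdeal B ^ e)
    {n : ℕ} {dA : K E (n + 1) →+ K (ResidueField A) n} (hdA : IsTameSymbol A E n dA)
    {dB : K F (n + 1) →+ K (ResidueField B) n} (hdB : IsTameSymbol B F n dB)
    (x : K E (n + 1)) :
    dB (MilK.map (algebraMap E F) (n + 1) x) =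
      e • MilK.map (ResidueField.map (algebraMap A B)) n (dA x) := by
  obtain ⟨p, hp⟩ := IsDiscreteValuationRing.exists_irreducible A
  obtain ⟨q, hq⟩ := IsDiscreteValuationRing.exists_irreducible B
  obtain rfl := eq_tame E hp hdA
  obtain rfl := eq_tame F hq hdB
  have hunit : ∀ u : Aˣ, Units.map (algebraMap E F : E →* F) (unitToFrac A E u) =
      unitToFrac B F (Units.map (algebraMap A B : A →* B) u) := fun u =>
    Units.ext (by simp [coe_unitToFrac, ← IsScalarTower.algebraMap_apply])
  have key : (tame F hq n).comp (MilK.map (algebraMap E F) (n + 1)) =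
      e • (MilK.map (ResidueField.map (algebraMap A B)) n).comp (tame E hp n) := by
    refine hom_ext_tame E hp (fun u => ?_) (fun u => ?_)
    · simp only [AddMonoidHom.coe_comp, Function.comp_apply, AddMonoidHom.coe_smul, Pi.smul_apply,
        map_symbol, hunit, tame_unit, map_zero, smul_zero]
    · have hpq : Ideal.span {algebraMap A B p} = Ideal.span {q ^ e} := by
        rw [← Ideal.span_singleton_pow, ← hq.maximalIdeal_eq, ← he, hp.maximalIdeal_eq,
          Ideal.map_span, Set.image_singleton]
      obtain ⟨w, hw⟩ := (Ideal.span_singleton_eq_span_singleton.mp hpq).symm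
      have hord : ordU F hq (Units.map (algebraMap E F : E →* F) (unif E hp)) = e := by
        refine (ordU_unitPart_of_eq F hq (u := w) (Units.ext ?_)).1
        simp only [Units.coe_map, MonoidHom.coe_coe, coe_unitFrac, Units.val_mul, zpow_natCast,
          Units.val_pow_eq_pow_val, coe_unitToFrac, ← map_pow, ← map_mul, hw,
          ← IsScalarTower.algebraMap_apply]
      simp only [AddMonoidHom.coe_comp, Function.comp_apply, AddMonoidHom.coe_smul, Pi.smul_apply,
        map_symbol, tame_cons, (ordU_unitPart_unif E hp).1, one_smul]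
      rw [show (fun i => Units.map (algebraMap E F : E →* F) ((Fin.cons (unif E hp)
          (fun i => unitToFrac A E (u i)) : Fin (n + 1) → Eˣ) i)) =
          Fin.cons (Units.map (algebraMap E F : E →* F) (unif E hp))
            (fun i => unitToFrac B F (Units.map (algebraMap A B : A →* B) (u i))) from
          funext fun i => by cases i using Fin.cases <;> simp [hunit]]
      rw [tame_cons, hord, natCast_zsmul]
      congr 2
  exact DFunLike.congr_fun key x

end Groth.Agent.MilnorK
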