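import Groth.Agent.MilnorK.Tame
import Mathlib.LinearAlgebra.Quotient.Basic
import Mathlib.RingTheory.LocalRing.ResidueField.Basic

/-! The kernel of the pair (specialization, residue). -/

universe u v

namespace Groth.Agent.MilnorK

open MilK IsLocalRing

variable (A : Type u) [CommRing A] [IsDomain A] [IsDiscreteValuationRing A]
  (L : Type v) [Field L] [Algebra A L] [IsFractionRing A L]

set_option quotPrecheck false in
local notation "κ" => ResidueField A

/-- The subgroup of symbols headed by a principal unit. -/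
def vGrp : (n : ℕ) → AddSubgroup (K L n)
  | 0 => ⊥
  | n + 1 => AddSubgroup.closure {z : K L (n + 1) | ∃ (u₀ : Aˣ) (w : Fin n → Lˣ),
        IsLocalRing.residue A (u₀ : A) = 1 ∧ z = symbol (Fin.cons (unitToFrac A L u₀) w)}

variable {A} {L}

theorem principal_mem_vGrp {u : Aˣ} (hu : unitResidue A u = 1) {n : ℕ} (z : K L n) :
    consU L (unitToFrac A L u) z ∈ vGrp A L (n + 1) := by
  induction z using induction_symbol with
  | hs w =>
    rw [consU, consK_symbol]
    exact AddSubgroup.subset_closure ⟨u, w, congrArg Units.val hu, rfl⟩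
  | h0 => simp
  | hadd a b ha hb => rw [map_add]; exact add_mem ha hb
  | hneg a ha => rw [map_neg]; exact neg_mem ha

theorem consU_mem_vGrp (x : Lˣ) {n : ℕ} {z : K L n} (hz : z ∈ vGrp A L n) :
    consU L x z ∈ vGrp A L (n + 1) := by
  cases n with
  | zero => obtain rfl : z = 0 := hz; simp
  | succ n =>
    induction hz using AddSubgroup.closure_induction with
    | mem a ha =>
      obtain ⟨u, w, hu, rfl⟩ := ha
      rw [← consK_symbol, consU, consK_anticomm]
      exact neg_mem (principal_mem_vGrp (Units.ext hu) _)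
    | zero => simp
    | add p q _ _ hp hq => rw [map_add]; exact add_mem hp hq
    | neg p _ hp => rw [map_neg]; exact neg_mem hp

theorem vGrp_le_unitGrp : ∀ n : ℕ, vGrp A L n ≤ unitGrp A L n
  | 0 => by simp [vGrp]
  | n + 1 => by
    obtain ⟨ϖ, hϖ⟩ := IsDiscreteValuationRing.exists_irreducible A
    have key : ∀ {m : ℕ} (u : Aˣ), unitResidue A u = 1 → ∀ b ∈ unitGrp A L m,
        consU L (unitToFrac A L u) (consU L (unif L hϖ) b) ∈ unitGrp A L (m + 2) := by
      intro m
      have simple : ∀ (u : Aˣ) (c : A), IsUnit c → (u : A) = 1 + ϖ * c → ∀ b ∈ unitGrp A L m,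
          consU L (unitToFrac A L u) (consU L (unif L hϖ) b) ∈ unitGrp A L (m + 2) := by
        intro u c hc hu b hb
        have h : consK L (m + 1) (.ofMul (unitToFrac A L u))
            (consK L m (.ofMul (unif L hϖ * unitToFrac A L (-hc.unit))) b) = 0 := by
          refine ρ_injective _ ?_
          rw [ρ_consK, ρ_consK, ← mul_assoc, map_zero]
          rw [sym_isSym L (unitToFrac A L u) (unif L hϖ * unitToFrac A L (-hc.unit)) ?_, zero_mul]
          simp [coe_unitToFrac, hu]
        rw [ofMul_mul, map_add, AddMonoidHom.add_apply, map_add] at h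
        rw [consU, consU, eq_neg_of_add_eq_zero_left h]
        exact neg_mem (consK_unit_mem L u (consK_unit_mem L _ hb))
      intro u hu b hb
      have hu' : residue A (u : A) = 1 := congrArg Units.val hu
      obtain ⟨c, hc⟩ : ϖ ∣ (u : A) - 1 := by
        rw [← Ideal.mem_span_singleton, ← hϖ.maximalIdeal_eq, ← residue_eq_zero_iff, map_sub,
          map_one, hu', sub_self]
      have hc' : (u : A) = 1 + ϖ * c := by rw [← hc]; ring
      by_cases hcu : IsUnit c
      · exact simple u c hcu hc' b hb
      · have h1 : IsUnit (1 + ϖ) := by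
          rw [← residue_ne_zero_iff_isUnit, map_add, map_one,
            (residue_eq_zero_iff ϖ).mpr hϖ.not_isUnit, add_zero]
          exact one_ne_zero
        have hc1 : IsUnit (c - 1) := by
          rw [← residue_ne_zero_iff_isUnit, map_sub, map_one,
            (residue_eq_zero_iff c).mpr hcu, zero_sub, neg_ne_zero]
          exact one_ne_zero
        set u₁ : Aˣ := u * h1.unit⁻¹
        have e : u = u₁ * h1.unit := by simp [u₁]
        have hu₁ : (u₁ : A) = 1 + ϖ * ((c - 1) * ↑h1.unit⁻¹) := by
          have := h1.mul_val_inv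
          simp only [u₁, Units.val_mul, hc']
          linear_combination this
        rw [e, map_mul, consU, ofMul_mul, map_add, AddMonoidHom.add_apply]
        exact add_mem (simple u₁ _ (hc1.mul (Units.isUnit _)) hu₁ b hb)
          (simple h1.unit 1 isUnit_one (by simp) b hb)
    rw [vGrp, AddSubgroup.closure_le]
    rintro z ⟨u, w, hu, rfl⟩
    rw [SetLike.mem_coe, ← consK_symbol]
    cases n with
    | zero =>
      rw [consK_symbol]
      refine AddSubgroup.subset_closure ⟨fun _ => u, congrArg symbol (funext fun i => ?_)⟩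
      obtain rfl : i = 0 := Subsingleton.elim (α := Fin 1) i 0
      rfl
    | succ m =>
      obtain ⟨a, ha, b, hb, e⟩ := exists_unit_add_unif L hϖ (symbol w)
      rw [e, map_add]
      exact add_mem (consK_unit_mem L u ha) (key u (Units.ext hu) b hb)

variable {ϖ : A} (hϖ : Irreducible ϖ)

theorem specMap_consK {n : ℕ} (x : Lˣ) (z : K L n) :
    specMap L hϖ (n + 1) (consU L x z) =
      consK κ n (.ofMul (unitResidue A (unitPart L hϖ x))) (specMap L hϖ n z) := by
  induction z using induction_symbol with
  | hs w =>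
    rw [consU, consK_symbol, specMap_symbol, specMap_symbol, consK_symbol]
    exact congrArg symbol (funext fun i => by cases i using Fin.cases <;> rfl)
  | h0 => simp
  | hadd a b ha hb => simp [ha, hb]
  | hneg a ha => simp [ha]

theorem specMap_consU_unif {n : ℕ} (z : K L n) :
    specMap L hϖ (n + 1) (consU L (unif L hϖ) z) = 0 := by
  rw [specMap_consK, (ordU_unitPart_unif L hϖ).2, map_one, ofMul_one, map_zero,
    AddMonoidHom.zero_apply]

theorem tame_consU_unit_grp {n : ℕ} (x : Lˣ) {z : K L n} (hz : z ∈ unitGrp A L n) :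
    tame L hϖ n (consU L x z) = ordU L hϖ x • specMap L hϖ n z := by
  induction hz using AddSubgroup.closure_induction with
  | mem a ha =>
    obtain ⟨u, rfl⟩ := ha
    rw [consU, consK_symbol, tame_cons, specMap_symbol]
    simp only [(ordU_unitPart_unit L hϖ _).2]
  | zero => simp
  | add p q _ _ hp hq => simp [hp, hq]
  | neg p _ hp => simp [hp]

theorem tame_unitGrp {n : ℕ} {z : K L (n + 1)} (hz : z ∈ unitGrp A L (n + 1)) :
    tame L hϖ n z = 0 := by
  induction hz using AddSubgroup.closure_induction with
  | mem a ha => obtain ⟨u, rfl⟩ := ha; exact tame_unit L hϖ u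
  | zero => simp
  | add p q _ _ hp hq => simp [hp, hq]
  | neg p _ hp => simp [hp]

theorem tame_vGrp {n : ℕ} {z : K L (n + 1)} (hz : z ∈ vGrp A L (n + 1)) : tame L hϖ n z = 0 :=
  tame_unitGrp hϖ (vGrp_le_unitGrp _ hz)

theorem specMap_vGrp {n : ℕ} {z : K L (n + 1)} (hz : z ∈ vGrp A L (n + 1)) :
    specMap L hϖ (n + 1) z = 0 := by
  induction hz using AddSubgroup.closure_induction with
  | mem a ha =>
    obtain ⟨u, w, hu, rfl⟩ := ha
    rw [← consK_symbol]
    change specMap L hϖ (n + 1) (consU L (unitToFrac A L u) (symbol w)) = 0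
    rw [specMap_consK, (ordU_unitPart_unit L hϖ u).2, show unitResidue A u = 1 from Units.ext hu,
      ofMul_one, map_zero, AddMonoidHom.zero_apply]
  | zero => simp
  | add p q _ _ hp hq => simp [hp, hq]
  | neg p _ hp => simp [hp]

theorem exists_unitLift (a : κˣ) : ∃ u : Aˣ, unitResidue A u = a :=
  IsLocalRing.surjective_units_map_of_local_ringHom _ residue_surjective inferInstance a

theorem exists_unitGrp_specMap {n : ℕ} (a : K κ n) :
    ∃ z ∈ unitGrp A L n, specMap L hϖ n z = a := by
  induction a using induction_symbol with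
  | hs x =>
    choose u hu using fun i => exists_unitLift (x i)
    refine ⟨_, symbol_mem_unitGrp L u, ?_⟩
    simp only [specMap_symbol, (ordU_unitPart_unit L hϖ _).2, hu]
  | h0 => exact ⟨0, zero_mem _, map_zero _⟩
  | hadd p q hp hq =>
    obtain ⟨a, ha, rfl⟩ := hp
    obtain ⟨b, hb, rfl⟩ := hq
    exact ⟨a + b, add_mem ha hb, map_add _ _ _⟩
  | hneg p hp =>
    obtain ⟨a, ha, rfl⟩ := hp
    exact ⟨-a, neg_mem ha, map_neg _ _⟩

theorem pair_surjective {n : ℕ} (a : K κ (n + 1)) (b : K κ n) :
    ∃ x : K L (n + 1), specMap L hϖ (n + 1) x = a ∧ tame L hϖ n x = b := by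
  obtain ⟨p, hp, rfl⟩ := exists_unitGrp_specMap (L := L) hϖ a
  obtain ⟨q, hq, rfl⟩ := exists_unitGrp_specMap (L := L) hϖ b
  refine ⟨p + consU L (unif L hϖ) q, ?_, ?_⟩
  · rw [map_add, specMap_consU_unif, add_zero]
  · rw [map_add, tame_unitGrp hϖ hp, zero_add, tame_consU_unit_grp hϖ _ hq,
      (ordU_unitPart_unif L hϖ).1, one_smul]

/-! ### Modulo the subgroups `vGrp` -/

variable (A L)

/-- The direct sum of the `vGrp`. -/
def vTot : AddSubgroup (Tot L) := ⨆ n, (vGrp A L n).map (DirectSum.of (fun m => K L m) n)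

variable {A L}

theorem sym_vTot (x : Lˣ) {z : Tot L} (hz : z ∈ vTot A L) : sym L (.ofMul x) z ∈ vTot A L := by
  induction hz using AddSubgroup.iSup_induction' with
  | hp n a ha =>
    obtain ⟨w, hw, rfl⟩ := ha
    rw [sym_of]
    exact AddSubgroup.mem_iSup_of_mem (n + 1) ⟨_, consU_mem_vGrp x hw, rfl⟩
  | h1 => rw [map_zero]; exact zero_mem _
  | hadd p q _ _ hp hq => rw [map_add]; exact add_mem hp hq

theorem of_mem_vTot {n : ℕ} {z : K L n}
    (hz : DirectSum.of (fun m => K L m) n z ∈ vTot A L) : z ∈ vGrp A L n := by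
  have : vTot A L ≤ (vGrp A L n).comap (DFinsupp.evalAddMonoidHom n) := by
    refine iSup_le fun m => ?_
    rintro _ ⟨w, hw, rfl⟩
    change (DirectSum.of (fun k => K L k) m w : Tot L) n ∈ vGrp A L n
    by_cases h : m = n
    · subst h; rw [DirectSum.of_eq_same]; exact hw
    · rw [DirectSum.of_eq_of_ne _ _ _ (Ne.symm h)]; exact zero_mem _
  have h2 := this hz
  change (DirectSum.of (fun k => K L k) n z : Tot L) n ∈ vGrp A L n at h2
  rwa [DirectSum.of_eq_same] at h2

variable (A L)

/-- The symbol hom on the quotient by `vTot`. -/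
noncomputable def qsym :
    Additive Lˣ →+ Module.End ℤ (Tot L ⧸ (vTot A L).toIntSubmodule) :=
  AddMonoidHom.mk'
    (fun x => Submodule.mapQ _ _ (sym L x) fun _ hz => sym_vTot x.toMul hz)
    (fun x y => Submodule.linearMap_qext _ (LinearMap.ext fun z => by
      change Submodule.Quotient.mk (p := (vTot A L).toIntSubmodule) (sym L (x + y) z) = Submodule.Quotient.mk (sym L x z) +
        Submodule.Quotient.mk (sym L y z)
      rw [map_add, LinearMap.add_apply, Submodule.Quotient.mk_add]))

theorem qsym_isSym : IsSym (qsym A L) := fun x y h => Submodule.linearMap_qext _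
  (LinearMap.ext fun z => by
    change Submodule.Quotient.mk (sym L (.ofMul x) (sym L (.ofMul y) z)) = 0
    rw [← Module.End.mul_apply, sym_isSym L x y h, LinearMap.zero_apply, Submodule.Quotient.mk_zero])

variable {A L}

theorem qsym_principal {u : Aˣ} (hu : unitResidue A u = 1) :
    qsym A L (.ofMul (unitToFrac A L u)) = 0 := by
  refine Submodule.linearMap_qext _ (LinearMap.toAddMonoidHom_injective
    (DirectSum.addHom_ext fun n z => ?_))
  change Submodule.Quotient.mk (sym L (.ofMul (unitToFrac A L u))
    (DirectSum.of (fun m => K L m) n z)) = 0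
  rw [sym_of, Submodule.Quotient.mk_eq_zero]
  exact AddSubgroup.mem_iSup_of_mem (n + 1) ⟨_, principal_mem_vGrp hu z, rfl⟩

theorem qsym_congr {u v : Aˣ} (h : unitResidue A u = unitResidue A v) :
    qsym A L (.ofMul (unitToFrac A L u)) = qsym A L (.ofMul (unitToFrac A L v)) := by
  have : qsym A L (.ofMul (unitToFrac A L (u * v⁻¹))) = 0 :=
    qsym_principal (by rw [map_mul, map_inv, h, mul_inv_cancel])
  rw [map_mul, map_inv, ofMul_mul, ofMul_inv, map_add, map_neg, ← sub_eq_add_neg,
    sub_eq_zero] at this
  exact this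

variable (A L)

/-- The symbol hom of the residue field into the quotient. -/
noncomputable def liftSym :
    Additive κˣ →+ Module.End ℤ (Tot L ⧸ (vTot A L).toIntSubmodule) :=
  AddMonoidHom.mk' (fun a => qsym A L (.ofMul (unitToFrac A L (exists_unitLift a.toMul).choose)))
    (fun a b => by
      rw [← map_add, ← ofMul_mul, ← map_mul]
      refine qsym_congr ?_
      rw [map_mul, (exists_unitLift _).choose_spec, (exists_unitLift _).choose_spec,
        (exists_unitLift _).choose_spec, toMul_add])

variable {A L}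

theorem liftSym_residue (u : Aˣ) :
    liftSym A L (.ofMul (unitResidue A u)) = qsym A L (.ofMul (unitToFrac A L u)) :=
  qsym_congr (A := A) (L := L) (u := (exists_unitLift (unitResidue A u)).choose)
    (exists_unitLift (unitResidue A u)).choose_spec

theorem liftSym_isSym : IsSym (liftSym A L) := by
  intro a b h
  obtain ⟨u, rfl⟩ := exists_unitLift a
  have hu : residue A (1 - (u : A)) = (b : κ) := by
    rw [map_sub, map_one, ← h]
    simp [unitResidue]
  have hb : IsUnit (1 - (u : A)) :=
    (residue_ne_zero_iff_isUnit _).mp (by rw [hu]; exact b.ne_zero)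
  obtain rfl : b = unitResidue A hb.unit := Units.ext (by simp [unitResidue, hu])
  rw [liftSym_residue, liftSym_residue]
  exact qsym_isSym A L _ _ (by simp [coe_unitToFrac])

theorem qrep_unitGrp {n : ℕ} {z : K L n} (hz : z ∈ unitGrp A L n) :
    (qsym_isSym A L).rep n z = (liftSym_isSym (A := A) (L := L)).rep n (specMap L hϖ n z) := by
  induction hz using AddSubgroup.closure_induction with
  | mem a ha =>
    obtain ⟨u, rfl⟩ := ha
    rw [specMap_symbol, IsSym.rep_symbol, IsSym.rep_symbol, lprod_ofFn, lprod_ofFn]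
    simp only [(ordU_unitPart_unit L hϖ _).2, liftSym_residue]
  | zero => simp
  | add p q _ _ hp hq => simp [hp, hq]
  | neg p _ hp => simp [hp]

theorem qrep_one {n : ℕ} (z : K L n) :
    (qsym_isSym A L).rep n z (Submodule.Quotient.mk (oneK L)) =
      Submodule.Quotient.mk (DirectSum.of (fun m => K L m) n z) := by
  induction z using induction_symbol with
  | hs x =>
    induction n with
    | zero =>
      rw [IsSym.rep_symbol]
      simp only [List.ofFn_zero, IsSym.lprod, List.map_nil, List.prod_nil, Module.End.one_apply,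
        oneK]
      exact congrArg Submodule.Quotient.mk (congrArg (DirectSum.of (fun m => K L m) 0)
        (congrArg symbol (funext fun i => i.elim0)))
    | succ n ih =>
      have := ih (Fin.tail x)
      rw [IsSym.rep_symbol] at this ⊢
      rw [List.ofFn_succ, IsSym.lprod, List.map_cons, List.prod_cons, Module.End.mul_apply]
      rw [IsSym.lprod] at this
      rw [show (List.ofFn fun i => x i.succ) = List.ofFn (Fin.tail x) from rfl, this]
      change Submodule.Quotient.mk (sym L (.ofMul (x 0)) _) = _
      rw [sym_of, consK_symbol, Fin.cons_self_tail]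
  | h0 => simp
  | hadd a b ha hb => simp [ha, hb]
  | hneg a ha => simp [ha]

theorem qrep_consU {n : ℕ} (x : Lˣ) (z : K L n) :
    (qsym_isSym A L).rep (n + 1) (consU L x z) =
      qsym A L (.ofMul x) * (qsym_isSym A L).rep n z := by
  induction z using induction_symbol with
  | hs a =>
    rw [consU, consK_symbol, IsSym.rep_symbol, IsSym.rep_symbol, List.ofFn_succ,
      IsSym.lprod, List.map_cons, List.prod_cons]
    simp [IsSym.lprod]
  | h0 => simp
  | hadd p q hp hq => simp [hp, hq, mul_add]
  | hneg p hp => simp [hp]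

theorem mem_vGrp_of_pair_zero {n : ℕ} {z : K L (n + 1)} (hs : specMap L hϖ (n + 1) z = 0)
    (hd : tame L hϖ n z = 0) : z ∈ vGrp A L (n + 1) := by
  obtain ⟨a, ha, b, hb, rfl⟩ := exists_unit_add_unif L hϖ z
  rw [map_add, specMap_consU_unif, add_zero] at hs
  rw [map_add, tame_unitGrp hϖ ha, zero_add, tame_consU_unit_grp hϖ _ hb,
    (ordU_unitPart_unif L hϖ).1, one_smul] at hd
  refine of_mem_vTot ?_
  have h0 : (qsym_isSym A L).rep (n + 1) (a + consU L (unif L hϖ) b) = 0 := by
    rw [map_add, qrep_consU, qrep_unitGrp hϖ ha, qrep_unitGrp hϖ hb, hs, hd, map_zero, map_zero,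
      mul_zero, add_zero]
  have h1 := qrep_one (A := A) (a + consU L (unif L hϖ) b)
  rw [h0, LinearMap.zero_apply, eq_comm, Submodule.Quotient.mk_eq_zero] at h1
  exact h1

theorem tame_ker {n : ℕ} : (tame L hϖ n).ker = unitGrp A L (n + 1) := by
  refine le_antisymm (fun z hz => ?_) (fun z hz => tame_unitGrp hϖ hz)
  obtain ⟨p, hp, hps⟩ := exists_unitGrp_specMap (L := L) hϖ (specMap L hϖ (n + 1) z)
  have : z - p ∈ vGrp A L (n + 1) := mem_vGrp_of_pair_zero hϖ
    (by rw [map_sub, hps, sub_self])
    (by rw [map_sub, AddMonoidHom.mem_ker.mp hz, tame_unitGrp hϖ hp, sub_self])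
  simpa using add_mem (vGrp_le_unitGrp _ this) hp

end Groth.Agent.MilnorK
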