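import Groth.Prelude.Def_GSzMilK
import Mathlib.LinearAlgebra.Multilinear.Basic
import Mathlib.LinearAlgebra.Multilinear.Curry
import Mathlib.Algebra.DirectSum.Module
import Mathlib.Data.List.OfFn
import Mathlib.Tactic.NoncommRing
import Mathlib.Tactic.Abel

/-!
Representations of Milnor K-theory into rings, and the faithful one.
-/

universe u v w

open scoped DirectSum

namespace Groth.Agent.MilnorK

open MilK

variable {F : Type u} [Field F] {R : Type w} [Ring R]

/-- A hom out of the unit group into a ring that kills Steinberg pairs. -/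
def IsSym (φ : Additive Fˣ →+ R) : Prop :=
  ∀ a b : Fˣ, (a : F) + (b : F) = 1 → φ (.ofMul a) * φ (.ofMul b) = 0

namespace IsSym

variable {φ : Additive Fˣ →+ R} (hφ : IsSym φ)
include hφ

theorem mul_neg_self (x : Fˣ) : φ (.ofMul x) * φ (.ofMul (-x)) = 0 := by
  by_cases hx : x = 1
  · subst hx; simp
  have hx' : (x : F) ≠ 1 := fun h => hx (Units.ext h)
  have h1 : (1 : F) - x ≠ 0 := sub_ne_zero.mpr (Ne.symm hx')
  have h2 : (1 : F) - (x : F)⁻¹ ≠ 0 := by
    rw [sub_ne_zero]; intro h; exact hx' (inv_eq_one.mp h.symm)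
  have e : -x = Units.mk0 _ h1 * (Units.mk0 _ h2)⁻¹ := by
    rw [eq_mul_inv_iff_mul_eq]
    refine Units.ext ?_
    simp only [Units.val_mul, Units.val_neg, Units.val_mk0]
    have := x.ne_zero
    field_simp
    ring
  have s1 := hφ x (Units.mk0 _ h1) (by simp)
  have s2 := hφ x⁻¹ (Units.mk0 _ h2) (by simp)
  rw [ofMul_inv, map_neg, neg_mul, neg_eq_zero] at s2
  rw [e, ofMul_mul, map_add, ofMul_inv, map_neg, mul_add, mul_neg, s1, s2, neg_zero, add_zero]

theorem anticomm (x y : Fˣ) :
    φ (.ofMul x) * φ (.ofMul y) = -(φ (.ofMul y) * φ (.ofMul x)) := by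
  have h := hφ.mul_neg_self (x * y)
  have hx := hφ.mul_neg_self x
  have hy := hφ.mul_neg_self y
  have e1 : -(x * y) = -x * y := by simp
  have e2 : -(x * y) = x * -y := by simp
  rw [ofMul_mul, map_add, add_mul] at h
  rw [e1] at h
  nth_rewrite 1 [ofMul_mul, map_add, mul_add, hx, zero_add] at h
  rw [← e1, e2, ofMul_mul, map_add, mul_add, hy, add_zero] at h
  exact eq_neg_of_add_eq_zero_left h

omit hφ in
theorem two_negOne : φ (.ofMul (-1)) + φ (.ofMul (-1)) = 0 := by
  rw [← map_add, ← ofMul_mul]; simp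

omit hφ in
theorem neg_negOne : -φ (.ofMul (-1)) = φ (.ofMul (-1)) :=
  neg_eq_of_add_eq_zero_left two_negOne

omit hφ in
theorem map_neg_unit (x : Fˣ) : φ (.ofMul (-x)) = φ (.ofMul (-1)) + φ (.ofMul x) := by
  rw [← map_add, ← ofMul_mul]; simp

theorem self_mul (x : Fˣ) : φ (.ofMul x) * φ (.ofMul x) = φ (.ofMul x) * φ (.ofMul (-1)) := by
  have h := hφ.mul_neg_self x
  rw [map_neg_unit, mul_add] at h
  rw [eq_neg_of_add_eq_zero_right h, ← mul_neg, neg_negOne]

theorem negOne_comm (x : Fˣ) :
    φ (.ofMul x) * φ (.ofMul (-1)) = φ (.ofMul (-1)) * φ (.ofMul x) := by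
  rw [hφ.anticomm, ← neg_mul, neg_negOne]

/-- The product of the images of a list of units. -/
def lprod (φ : Additive Fˣ →+ R) (l : List Fˣ) : R := (l.map fun x => φ (.ofMul x)).prod

theorem mul_lprod_eq_zero {x : Fˣ} {l : List Fˣ}
    (h : ∃ y ∈ l, φ (.ofMul x) * φ (.ofMul y) = 0) : φ (.ofMul x) * lprod φ l = 0 := by
  induction l with
  | nil => simp at h
  | cons z t ih =>
    obtain ⟨y, hy, hxy⟩ := h
    simp only [lprod, List.map_cons, List.prod_cons, ← mul_assoc]
    rcases List.mem_cons.mp hy with rfl | hy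
    · rw [hxy, zero_mul]
    · rw [hφ.anticomm, neg_mul, mul_assoc]
      rw [show φ (.ofMul x) * (List.map _ t).prod = 0 from ih ⟨y, hy, hxy⟩, mul_zero, neg_zero]

theorem lprod_comm (x : Fˣ) (l : List Fˣ) :
    φ (.ofMul x) * lprod φ l = (-1 : ℤ) ^ l.length • (lprod φ l * φ (.ofMul x)) := by
  induction l with
  | nil => simp [lprod]
  | cons z t ih =>
    simp only [lprod, List.map_cons, List.prod_cons, List.length_cons, ← mul_assoc]
    rw [hφ.anticomm, neg_mul, mul_assoc,
      show φ (.ofMul x) * (List.map _ t).prod = _ from ih, mul_smul_comm, pow_succ, mul_neg_one,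
      neg_smul, mul_assoc]
    rfl

theorem lprod_lprod_comm (l l' : List Fˣ) :
    lprod φ l * lprod φ l' = (-1 : ℤ) ^ (l.length * l'.length) • (lprod φ l' * lprod φ l) := by
  induction l with
  | nil => simp [lprod]
  | cons x t ih =>
    have e : lprod φ (x :: t) = φ (.ofMul x) * lprod φ t := by simp [lprod]
    rw [e, mul_assoc, ih, mul_smul_comm, ← mul_assoc, hφ.lprod_comm x l', smul_mul_assoc,
      smul_smul, ← pow_add, mul_assoc]
    congr 2
    rw [List.length_cons]; ring

end IsSym

open IsSym in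
theorem lprod_ofFn {φ : Additive Fˣ →+ R} {n : ℕ} (x : Fin n → Fˣ) :
    lprod φ (List.ofFn x) = (List.ofFn fun i => φ (.ofMul (x i))).prod := by
  simp [lprod, List.map_ofFn, Function.comp_def]

/-- The multilinear map `x ↦ φ x₁ * ⋯ * φ xₙ`. -/
noncomputable def multi (φ : Additive Fˣ →+ R) (n : ℕ) :
    MultilinearMap ℤ (fun _ : Fin n => Additive Fˣ) R :=
  (MultilinearMap.mkPiAlgebraFin ℤ n R).compLinearMap fun _ => φ.toIntLinearMap

theorem multi_apply (φ : Additive Fˣ →+ R) {n : ℕ} (x : Fin n → Fˣ) :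
    multi φ n (fun i => Additive.ofMul (x i)) = IsSym.lprod φ (List.ofFn x) := by
  rw [lprod_ofFn]; rfl

theorem IsSym.multi_steinberg {φ : Additive Fˣ →+ R} (hφ : IsSym φ) :
    ∀ {n : ℕ} (x : Fin n → Fˣ), IsSteinberg F x → multi φ n (fun i => Additive.ofMul (x i)) = 0 := by
  intro n
  induction n with
  | zero => rintro x ⟨i, -⟩; exact i.elim0
  | succ n ih =>
    rintro x ⟨i, j, hij, h⟩
    rw [multi_apply, List.ofFn_succ, IsSym.lprod, List.map_cons, List.prod_cons]
    cases i using Fin.cases with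
    | zero =>
      cases j using Fin.cases with
      | zero => exact absurd hij (lt_irrefl _)
      | succ j => exact hφ.mul_lprod_eq_zero ⟨x j.succ, List.mem_ofFn.mpr ⟨j, rfl⟩, hφ _ _ h⟩
    | succ i =>
      cases j using Fin.cases with
      | zero => exact absurd hij (by simp)
      | succ j =>
        have := ih (fun k => x k.succ) ⟨i, j, Fin.succ_lt_succ_iff.mp hij, h⟩
        rw [multi_apply, IsSym.lprod] at this
        rw [this, mul_zero]

/-- The additive map on `K F n` induced by a symbol hom. -/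
noncomputable def IsSym.rep {φ : Additive Fˣ →+ R} (hφ : IsSym φ) (n : ℕ) : K F n →+ R :=
  MilK.lift (multi φ n) fun x hx => hφ.multi_steinberg x hx

theorem IsSym.rep_symbol {φ : Additive Fˣ →+ R} (hφ : IsSym φ) {n : ℕ} (x : Fin n → Fˣ) :
    hφ.rep n (symbol x) = IsSym.lprod φ (List.ofFn x) := by
  rw [IsSym.rep, MilK.lift_symbol, multi_apply]

theorem closure_symbol (n : ℕ) :
    AddSubgroup.closure (Set.range (symbol : (Fin n → Fˣ) → K F n)) = ⊤ := by
  rw [eq_top_iff]
  intro z _
  obtain ⟨t, rfl⟩ := MilK.mk_surjective F n z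
  induction t using PiTensorProduct.induction_on with
  | smul_tprod r x =>
    rw [map_zsmul]
    exact zsmul_mem (AddSubgroup.subset_closure (Set.mem_range.mpr ⟨fun i => (x i).toMul, (MilK.mk_tprod x).symm⟩)) r
  | add a b ha hb =>
    rw [map_add]; exact add_mem (ha trivial) (hb trivial)

/-- Two additive maps out of `K F n` agreeing on symbols are equal. -/
theorem hom_ext {M : Type v} [AddCommGroup M] {n : ℕ} {f g : K F n →+ M}
    (h : ∀ x, f (symbol x) = g (symbol x)) : f = g :=
  AddMonoidHom.ext fun z => by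
    have hz : z ∈ AddSubgroup.closure (Set.range (symbol : (Fin n → Fˣ) → K F n)) := by
      rw [closure_symbol]; trivial
    induction hz using AddSubgroup.closure_induction_left with
    | zero => simp
    | add_left a ha b _ ih => obtain ⟨x, rfl⟩ := ha; simp [h x, ih]
    | neg_add_cancel a ha b _ ih => obtain ⟨x, rfl⟩ := ha; simp [h x, ih]

theorem induction_symbol {n : ℕ} {p : K F n → Prop} (hs : ∀ x, p (symbol x)) (h0 : p 0)
    (hadd : ∀ a b, p a → p b → p (a + b)) (hneg : ∀ a, p a → p (-a)) (z : K F n) : p z := by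
  have hz : z ∈ AddSubgroup.closure (Set.range (symbol : (Fin n → Fˣ) → K F n)) := by
    rw [closure_symbol]; trivial
  refine AddSubgroup.closure_induction (p := fun a _ => p a) ?_ h0 (fun a b _ _ => hadd a b)
    (fun a _ => hneg a) hz
  rintro _ ⟨x, rfl⟩; exact hs x

theorem IsSym.rep_mul {φ : Additive Fˣ →+ R} (hφ : IsSym φ) {n m : ℕ} (x : K F n) (y : K F m) :
    hφ.rep (n + m) (mul F n m x y) = hφ.rep n x * hφ.rep m y := by
  induction x using induction_symbol with
  | hs a =>
    induction y using induction_symbol with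
    | hs b =>
      rw [mul_symbol_symbol, rep_symbol, rep_symbol, rep_symbol, List.ofFn_fin_append, lprod,
        List.map_append, List.prod_append]
      rfl
    | h0 => simp
    | hadd p q hp hq => simp [hp, hq, mul_add]
    | hneg p hp => simp [hp]
  | h0 => simp
  | hadd p q hp hq => simp [hp, hq, add_mul]
  | hneg p hp => simp [hp]

theorem IsSym.rep_cast {φ : Additive Fˣ →+ R} (hφ : IsSym φ) {n m : ℕ} (h : n = m) (x : K F n) :
    hφ.rep m (MilK.cast F h x) = hφ.rep n x := by
  subst h; rfl

theorem IsSym.rep_graded_comm {φ : Additive Fˣ →+ R} (hφ : IsSym φ) {n m : ℕ} (x : K F n)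
    (y : K F m) :
    hφ.rep n x * hφ.rep m y = (-1 : ℤ) ^ (n * m) • (hφ.rep m y * hφ.rep n x) := by
  induction x using induction_symbol with
  | hs a =>
    induction y using induction_symbol with
    | hs b => simpa [rep_symbol] using hφ.lprod_lprod_comm (List.ofFn a) (List.ofFn b)
    | h0 => simp
    | hadd p q hp hq => simp [hp, hq, mul_add, add_mul]
    | hneg p hp => simp [hp]
  | h0 => simp
  | hadd p q hp hq => simp [hp, hq, mul_add, add_mul]
  | hneg p hp => simp [hp]

theorem IsSym.rep_map {E : Type v} [Field E] {ψ : Additive Eˣ →+ R} (hψ : IsSym ψ) (f : F →+* E)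
    {φ : Additive Fˣ →+ R} (hφ : IsSym φ)
    (h : ∀ x : Fˣ, φ (.ofMul x) = ψ (.ofMul (Units.map (f : F →* E) x))) {n : ℕ} (z : K F n) :
    hψ.rep n (MilK.map f n z) = hφ.rep n z := by
  have : (hψ.rep n).comp (MilK.map f n) = hφ.rep n := hom_ext fun x => by
    simp [rep_symbol, lprod_ofFn, h]
  exact DFunLike.congr_fun this z

/-! ## The faithful representation -/

variable (F)

/-- The sum of all Milnor K-groups. -/
abbrev Tot : Type u := ⨁ n : ℕ, K F n

/-- Left multiplication by a degree one symbol. -/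
noncomputable def consK (n : ℕ) : Additive Fˣ →+ K F n →+ K F (n + 1) :=
  AddMonoidHom.mk'
    (fun a => (MilK.cast F (Nat.add_comm 1 n)).toAddMonoidHom.comp (mul F 1 n ((K1 F).symm a)))
    (fun a b => by ext; simp)

variable {F}

theorem K1_symm (a : Fˣ) : (K1 F).symm (.ofMul a) = symbol fun _ => a :=
  (K1 F).injective (by simp)

theorem consK_symbol {n : ℕ} (a : Fˣ) (x : Fin n → Fˣ) :
    consK F n (.ofMul a) (symbol x) = symbol (Fin.cons a x) := by
  simp only [consK, AddMonoidHom.mk'_apply, AddMonoidHom.coe_comp, AddEquiv.coe_toAddMonoidHom,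
    Function.comp_apply, K1_symm, mul_symbol_symbol, cast_symbol]
  congr 1
  rw [Fin.append_left_eq_cons]
  ext i; simp

variable (F)

/-- The faithful symbol hom. -/
noncomputable def sym : Additive Fˣ →+ Module.End ℤ (Tot F) :=
  AddMonoidHom.mk'
    (fun a => AddMonoidHom.toIntLinearMap <| DirectSum.toAddMonoid fun n =>
      (DirectSum.of (fun m => K F m) (n + 1)).comp (consK F n a))
    (fun a b => LinearMap.toAddMonoidHom_injective <| DirectSum.addHom_ext fun n z => by simp)

variable {F}

theorem sym_of (a : Fˣ) {n : ℕ} (z : K F n) :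
    sym F (.ofMul a) (DirectSum.of (fun m => K F m) n z) =
      DirectSum.of (fun m => K F m) (n + 1) (consK F n (.ofMul a) z) := by
  simp [sym]

variable (F)

theorem sym_isSym : IsSym (R := Module.End ℤ (Tot F)) (sym F) := by
  intro a b h
  refine LinearMap.toAddMonoidHom_injective <| DirectSum.addHom_ext fun n z => ?_
  change sym F (.ofMul a) (sym F (.ofMul b) (DirectSum.of (fun m => K F m) n z)) = 0
  rw [sym_of, sym_of]
  have : (consK F (n + 1) (.ofMul a)).comp (consK F n (.ofMul b)) = 0 := hom_ext fun x => by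
    simp only [AddMonoidHom.coe_comp, Function.comp_apply, consK_symbol, AddMonoidHom.zero_apply]
    refine symbol_eq_zero_of_isSteinberg _ ⟨0, (0 : Fin (n + 1)).succ, Fin.succ_pos _, ?_⟩
    simpa using h
  rw [show consK F (n + 1) (.ofMul a) (consK F n (.ofMul b) z) = 0 from DFunLike.congr_fun this z,
    map_zero]

/-- The faithful representation. -/
noncomputable def ρ (n : ℕ) : K F n →+ Module.End ℤ (Tot F) := (sym_isSym F).rep n

/-- The unit of the total K-group. -/
noncomputable def oneK : Tot F := DirectSum.of (fun m => K F m) 0 (symbol ![])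

variable {F}

theorem ρ_apply_one {n : ℕ} (z : K F n) : ρ F n z (oneK F) = DirectSum.of _ n z := by
  induction z using induction_symbol with
  | hs x =>
    rw [ρ, IsSym.rep_symbol]
    induction n with
    | zero =>
      simp only [List.ofFn_zero, IsSym.lprod, List.map_nil, List.prod_nil, oneK]
      exact congrArg (DirectSum.of (fun m => K F m) 0) (congrArg symbol (funext fun i => i.elim0))
    | succ n ih =>
      rw [List.ofFn_succ, IsSym.lprod, List.map_cons, List.prod_cons, Module.End.mul_apply]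
      have := ih fun i => x i.succ
      rw [IsSym.lprod] at this
      rw [this, sym_of, consK_symbol]
      congr 2
      exact Fin.cons_self_tail x
  | h0 => simp
  | hadd a b ha hb => simp [ha, hb]
  | hneg a ha => simp [ha]

theorem ρ_injective (n : ℕ) : Function.Injective (ρ F n) := fun a b h => by
  refine DirectSum.of_injective (β := fun m => K F m) n ?_
  rw [← ρ_apply_one, ← ρ_apply_one, h]

theorem ρ_symbol {n : ℕ} (x : Fin n → Fˣ) : ρ F n (symbol x) = IsSym.lprod (sym F) (List.ofFn x) :=
  (sym_isSym F).rep_symbol x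

theorem ρ_symbol_one (x : Fin 1 → Fˣ) : ρ F 1 (symbol x) = sym F (.ofMul (x 0)) := by
  simp [ρ_symbol, IsSym.lprod]

theorem ρ_symbol_two (a b : Fˣ) :
    ρ F 2 (symbol ![a, b]) = sym F (.ofMul a) * sym F (.ofMul b) := by
  simp [ρ_symbol, IsSym.lprod, List.ofFn_succ]

end Groth.Agent.MilnorK
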