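import Groth.Agent.MilnorK.Dec
import Mathlib.Data.Matrix.Basic
import Mathlib.LinearAlgebra.Matrix.Notation
import Mathlib.Algebra.DirectSum.Module

/-! Existence and uniqueness of tame symbols and specialization maps. -/

universe u v w

namespace Groth.Agent.MilnorK

open MilK IsLocalRing

variable {A : Type u} [CommRing A] [IsDomain A] [IsDiscreteValuationRing A]
  (L : Type v) [Field L] [Algebra A L] [IsFractionRing A L] {ϖ : A} (hϖ : Irreducible ϖ)

set_option quotPrecheck false in
local notation "κ" => ResidueField A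
set_option quotPrecheck false in
local notation "Rκ" => Module.End ℤ (Tot (ResidueField A))

/-- Units of the valuation ring inside `K L n`. -/
def unitGrp (A : Type u) [CommRing A] (L : Type v) [Field L] [Algebra A L] (n : ℕ) :
    AddSubgroup (K L n) :=
  AddSubgroup.closure {z | ∃ u : Fin n → Aˣ, z = symbol (fun i => unitToFrac A L (u i))}

omit [IsDomain A] [IsDiscreteValuationRing A] [IsFractionRing A L] in
theorem symbol_mem_unitGrp {n : ℕ} (u : Fin n → Aˣ) :
    (symbol fun i => unitToFrac A L (u i)) ∈ unitGrp A L n :=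
  AddSubgroup.subset_closure ⟨u, rfl⟩

/-- Multiplication by a degree one symbol, on `K L n`. -/
noncomputable abbrev consU {n : ℕ} (x : Lˣ) : K L n →+ K L (n + 1) := consK L n (.ofMul x)

theorem ρ_consK {F : Type v} [Field F] {n : ℕ} (x : Fˣ) (z : K F n) :
    ρ F (n + 1) (consK F n (.ofMul x) z) = sym F (.ofMul x) * ρ F n z := by
  induction z using induction_symbol with
  | hs a =>
    rw [consK_symbol, ρ_symbol, ρ_symbol, List.ofFn_succ, IsSym.lprod, List.map_cons, List.prod_cons]
    simp [IsSym.lprod]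
  | h0 => simp
  | hadd p q hp hq => simp [hp, hq, mul_add]
  | hneg p hp => simp [hp]

theorem consK_anticomm {F : Type v} [Field F] {n : ℕ} (x y : Fˣ) (z : K F n) :
    consK F (n + 1) (.ofMul x) (consK F n (.ofMul y) z) =
      -consK F (n + 1) (.ofMul y) (consK F n (.ofMul x) z) := by
  refine ρ_injective _ ?_
  rw [map_neg, ρ_consK, ρ_consK, ρ_consK, ρ_consK, ← mul_assoc, ← mul_assoc,
    (sym_isSym F).anticomm, neg_mul]

theorem consK_self {F : Type v} [Field F] {n : ℕ} (x : Fˣ) (z : K F n) :
    consK F (n + 1) (.ofMul x) (consK F n (.ofMul x) z) =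
      consK F (n + 1) (.ofMul x) (consK F n (.ofMul (-1)) z) := by
  refine ρ_injective _ ?_
  rw [ρ_consK, ρ_consK, ρ_consK, ρ_consK, ← mul_assoc, ← mul_assoc, (sym_isSym F).self_mul]

theorem consK_unit_mem {n : ℕ} (u : Aˣ) {z : K L n} (hz : z ∈ unitGrp A L n) :
    consU L (unitToFrac A L u) z ∈ unitGrp A L (n + 1) := by
  induction hz using AddSubgroup.closure_induction with
  | mem a ha =>
    obtain ⟨v, rfl⟩ := ha
    rw [consU, consK_symbol]
    refine AddSubgroup.subset_closure ⟨Fin.cons u v, congrArg symbol ?_⟩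
    ext i; cases i using Fin.cases <;> simp
  | zero => simp
  | add p q _ _ hp hq => rw [map_add]; exact add_mem hp hq
  | neg p _ hp => rw [map_neg]; exact neg_mem hp

include hϖ in
/-- Every class of positive degree is `a + {ϖ} b` with `a`, `b` built from units. -/
theorem exists_unit_add_unif :
    ∀ {n : ℕ} (z : K L (n + 1)), ∃ a ∈ unitGrp A L (n + 1), ∃ b ∈ unitGrp A L n,
      z = a + consU L (unif L hϖ) b := by
  have hcons : ∀ {n : ℕ} (x : Lˣ) (c : K L n), c ∈ unitGrp A L n →
      ∃ a ∈ unitGrp A L (n + 1), ∃ b ∈ unitGrp A L n,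
        consU L x c = a + consU L (unif L hϖ) b := by
    intro n x c hc
    refine ⟨_, consK_unit_mem L (unitPart L hϖ x) hc, _, zsmul_mem hc (ordU L hϖ x), ?_⟩
    conv_lhs => rw [consU, decomp_eq L hϖ x, ofMul_mul, ofMul_zpow, map_add, map_zsmul]
    rw [AddMonoidHom.add_apply, AddMonoidHom.coe_smul, Pi.smul_apply, map_zsmul]
    exact add_comm _ _
  intro n
  induction n with
  | zero =>
    intro z
    induction z using induction_symbol with
    | hs x =>
      obtain ⟨a, ha, b, hb, e⟩ := hcons (x 0) (symbol ![])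
        (by
          have : symbol (fun i : Fin 0 => unitToFrac A L ((Fin.elim0 i : Aˣ))) ∈ unitGrp A L 0 :=
            symbol_mem_unitGrp L _
          convert this using 2)
      refine ⟨a, ha, b, hb, ?_⟩
      rw [← e, consU, consK_symbol]
      exact congrArg symbol (funext fun i => by obtain rfl : i = 0 := Subsingleton.elim (α := Fin 1) i 0; rfl)
    | h0 => exact ⟨0, zero_mem _, 0, zero_mem _, by simp⟩
    | hadd p q hp hq =>
      obtain ⟨a, ha, b, hb, rfl⟩ := hp
      obtain ⟨a', ha', b', hb', rfl⟩ := hq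
      exact ⟨a + a', add_mem ha ha', b + b', add_mem hb hb', by rw [map_add]; abel⟩
    | hneg p hp =>
      obtain ⟨a, ha, b, hb, rfl⟩ := hp
      exact ⟨-a, neg_mem ha, -b, neg_mem hb, by rw [map_neg]; abel⟩
  | succ n ih =>
    intro z
    induction z using induction_symbol with
    | hs x =>
      obtain ⟨a, ha, b, hb, e⟩ := ih (symbol (Fin.tail x))
      obtain ⟨a₁, ha₁, b₁, hb₁, e₁⟩ := hcons (x 0) a ha
      have hx : symbol x = consU L (x 0) (symbol (Fin.tail x)) := by
        rw [consU, consK_symbol, Fin.cons_self_tail]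
      rw [hx, e, map_add, e₁]
      refine ⟨a₁, ha₁, b₁ + (consU L (unitToFrac A L (-1 : Aˣ)) (ordU L hϖ (x 0) • b) -
          consU L (unitToFrac A L (unitPart L hϖ (x 0))) b),
        add_mem hb₁ (sub_mem (consK_unit_mem L _ (zsmul_mem hb _)) (consK_unit_mem L _ hb)), ?_⟩
      conv_lhs => arg 2; rw [consU, decomp_eq L hϖ (x 0), ofMul_mul, ofMul_zpow, map_add, map_zsmul]
      have hneg : unitToFrac A L (-1 : Aˣ) = -1 := Units.ext (by simp [coe_unitToFrac])
      simp only [AddMonoidHom.add_apply, AddMonoidHom.coe_smul, Pi.smul_apply, consU, consK_self,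
        map_add, map_sub, map_zsmul, hneg]
      rw [consK_anticomm (unitToFrac A L _) (unif L hϖ)]
      abel
    | h0 => exact ⟨0, zero_mem _, 0, zero_mem _, by simp⟩
    | hadd p q hp hq =>
      obtain ⟨a, ha, b, hb, rfl⟩ := hp
      obtain ⟨a', ha', b', hb', rfl⟩ := hq
      exact ⟨a + a', add_mem ha ha', b + b', add_mem hb hb', by rw [map_add]; abel⟩
    | hneg p hp =>
      obtain ⟨a, ha, b, hb, rfl⟩ := hp
      exact ⟨-a, neg_mem ha, -b, neg_mem hb, by rw [map_neg]; abel⟩

include hϖ in
/-- An additive map out of `K L (n+1)` is determined by unit symbols and `{ϖ, units}` symbols. -/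
theorem hom_ext_tame {M : Type w} [AddCommGroup M] {n : ℕ} {f g : K L (n + 1) →+ M}
    (hu : ∀ u : Fin (n + 1) → Aˣ, f (symbol fun i => unitToFrac A L (u i)) =
      g (symbol fun i => unitToFrac A L (u i)))
    (hp : ∀ u : Fin n → Aˣ,
      f (symbol (Fin.cons (unif L hϖ) fun i => unitToFrac A L (u i))) =
      g (symbol (Fin.cons (unif L hϖ) fun i => unitToFrac A L (u i)))) : f = g := by
  refine AddMonoidHom.ext fun z => ?_
  obtain ⟨a, ha, b, hb, rfl⟩ := exists_unit_add_unif L hϖ z
  rw [map_add, map_add]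
  congr 1
  · induction ha using AddSubgroup.closure_induction with
    | mem p hp' => obtain ⟨u, rfl⟩ := hp'; exact hu u
    | zero => simp
    | add p q _ _ h1 h2 => simp [h1, h2]
    | neg p _ h1 => simp [h1]
  · induction hb using AddSubgroup.closure_induction with
    | mem p hp' => obtain ⟨u, rfl⟩ := hp'; rw [consU, consK_symbol]; exact hp u
    | zero => simp
    | add p q _ _ h1 h2 => simp [h1, h2]
    | neg p _ h1 => simp [h1]

/-! ## The pair (specialization, residue) as a representation -/

/-- Residue of the unit part. -/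
noncomputable def resPart : Additive Lˣ →+ Additive κˣ :=
  AddMonoidHom.mk' (fun x => .ofMul (unitResidue A (unitPart L hϖ x.toMul))) fun x y => by
    rw [toMul_add, (ordU_unitPart_mul L hϖ x.toMul y.toMul).2, map_mul, ofMul_mul]

/-- The valuation as an additive map. -/
noncomputable def ordHom : Additive Lˣ →+ ℤ :=
  AddMonoidHom.mk' (fun x => ordU L hϖ x.toMul) fun x y => by
    rw [toMul_add, (ordU_unitPart_mul L hϖ x.toMul y.toMul).1]

/-- The lower triangular representation computing specialization and residue. -/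
noncomputable def pairSym : Additive Lˣ →+ Matrix (Fin 2) (Fin 2) Rκ :=
  AddMonoidHom.mk' (fun x =>
    !![sym κ (resPart L hϖ x), 0;
       ordHom L hϖ x • 1, ordHom L hϖ x • sym κ (.ofMul (-1)) - sym κ (resPart L hϖ x)])
    fun x y => by
      ext i j : 2
      fin_cases i <;> fin_cases j <;> simp [add_smul] <;> abel

theorem pairSym_ofMul (x : Lˣ) : pairSym L hϖ (.ofMul x) =
    !![sym κ (.ofMul (unitResidue A (unitPart L hϖ x))), 0;
       ordU L hϖ x • 1, ordU L hϖ x • sym κ (.ofMul (-1)) -
         sym κ (.ofMul (unitResidue A (unitPart L hϖ x)))] := rfl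

theorem pairSym_isSym : IsSym (pairSym L hϖ) := by
  intro x y hxy
  have hs := sym_isSym κ
  obtain ⟨hxp, hxn⟩ := cases_sum_one L hϖ hxy
  obtain ⟨hyp, hyn⟩ := cases_sum_one L hϖ (show (y : L) + x = 1 by rw [add_comm]; exact hxy)
  rw [pairSym_ofMul, pairSym_ofMul, Matrix.mul_fin_two]
  have hzero : (0 : Matrix (Fin 2) (Fin 2) Rκ) = !![0, 0; 0, 0] := by
    ext i j : 2; fin_cases i <;> fin_cases j <;> rfl
  rcases lt_trichotomy (ordU L hϖ x) 0 with he | he | he
  · obtain ⟨h1, h2⟩ := hxn he
    rw [h1, h2, hzero]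
    set e := ordU L hϖ x
    set r := unitResidue A (unitPart L hϖ x)
    set m := sym κ (.ofMul (-1 : κˣ))
    set p := sym κ (.ofMul r)
    have hp : p * p = p * m := hs.self_mul r
    have hc : p * m = m * p := hs.negOne_comm r
    have h2m : m + m = 0 := IsSym.two_negOne
    have hq : sym κ (.ofMul (-r)) = m + p := IsSym.map_neg_unit r
    have hm2 : ∀ q : Rκ, (2 : ℤ) • (m * q) = 0 := fun q => by
      rw [two_zsmul, ← add_mul, h2m, zero_mul]
    have hpp : p * (m + p) = 0 := by rw [← hq]; exact hs.mul_neg_self r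
    rw [hq]
    have e1 : e • 1 * (m + p) + (e • m - p) * e • 1 = 0 := by
      obtain ⟨k, hk⟩ := Int.even_mul_succ_self e
      have hm : (e * (e + 1)) • m = 0 := by
        rw [hk, add_smul, ← smul_add, h2m, smul_zero]
      simp only [sub_mul, smul_mul_assoc, mul_smul_comm, mul_one, one_mul, smul_smul, smul_sub]
      rw [show e * (e + 1) = e * e + e by ring, add_smul] at hm
      linear_combination (norm := module) hm
    have e2 : (e • m - p) * (e • m - (m + p)) = 0 := by
      simp only [sub_mul, mul_sub, mul_add, smul_mul_assoc, mul_smul_comm, smul_smul, hp, hc,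
        smul_add]
      obtain ⟨k, hk⟩ := Int.even_mul_pred_self e
      have hmm : (e * (e - 1)) • (m * m) = 0 := by
        rw [hk, add_smul, ← smul_add, ← add_mul, h2m, zero_mul, smul_zero]
      rw [show e * (e - 1) = e * e - e by ring, sub_smul] at hmm
      linear_combination (norm := module) hmm + (1 - e) • hm2 p
    simp only [hpp, mul_zero, zero_mul, add_zero, zero_add, e1, e2]
  · rcases lt_trichotomy (ordU L hϖ y) 0 with hf | hf | hf
    · exact absurd (he.symm.trans (hyn hf).1) (by omega)
    · have hsum : (unitResidue A (unitPart L hϖ x) : κ) + unitResidue A (unitPart L hϖ y) = 1 := by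
        have h1 := congrArg Units.val (decomp_eq L hϖ x)
        have h2 := congrArg Units.val (decomp_eq L hϖ y)
        rw [he, zpow_zero, one_mul, coe_unitToFrac] at h1
        rw [hf, zpow_zero, one_mul, coe_unitToFrac] at h2
        have : (unitPart L hϖ x : A) + unitPart L hϖ y = 1 :=
          IsFractionRing.injective A L (by rw [map_add, map_one, ← h1, ← h2, hxy])
        simpa [unitResidue] using congrArg (residue A) this
      rw [he, hf, hzero]
      have := hs _ _ hsum
      ext i j : 2
      fin_cases i <;> fin_cases j <;> simp [this]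
    · obtain ⟨_, h2⟩ := hyp hf
      rw [he, h2, hzero]
      ext i j : 2
      fin_cases i <;> fin_cases j <;> simp
  · obtain ⟨h1, h2⟩ := hxp he
    rw [h1, h2, hzero]
    ext i j : 2
    fin_cases i <;> fin_cases j <;> simp

/-- Evaluate at one and take a component. -/
noncomputable def coeff {F : Type u} [Field F] (n : ℕ) : Module.End ℤ (Tot F) →+ K F n :=
  (DFinsupp.evalAddMonoidHom n).comp
    (AddMonoidHom.mk' (fun f => f (oneK F)) fun f g => rfl)

theorem coeff_ρ {F : Type u} [Field F] {n : ℕ} (z : K F n) : coeff n (ρ F n z) = z := by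
  change (ρ F n z (oneK F) : Tot F) n = z
  rw [ρ_apply_one]
  exact DirectSum.of_eq_same n z

/-- The representation by matrices. -/
noncomputable def pairRep (n : ℕ) : K L n →+ Matrix (Fin 2) (Fin 2) Rκ :=
  (pairSym_isSym L hϖ).rep n

/-- The specialization map. -/
noncomputable def specMap (n : ℕ) : K L n →+ K κ n :=
  (coeff n).comp ((Matrix.entryAddMonoidHom Rκ (0 : Fin 2) (0 : Fin 2)).comp (pairRep L hϖ n))

/-- The tame symbol. -/
noncomputable def tame (n : ℕ) : K L (n + 1) →+ K κ n :=
  (coeff n).comp ((Matrix.entryAddMonoidHom Rκ (1 : Fin 2) (0 : Fin 2)).comp (pairRep L hϖ (n + 1)))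

theorem pairRep_consK {n : ℕ} (x : Lˣ) (z : K L n) :
    pairRep L hϖ (n + 1) (consK L n (.ofMul x) z) = pairSym L hϖ (.ofMul x) * pairRep L hϖ n z := by
  induction z using induction_symbol with
  | hs a =>
    rw [consK_symbol, pairRep, pairRep, IsSym.rep_symbol, IsSym.rep_symbol, List.ofFn_succ,
      IsSym.lprod, List.map_cons, List.prod_cons]
    simp [IsSym.lprod]
  | h0 => simp
  | hadd p q hp hq => simp [hp, hq, mul_add]
  | hneg p hp => simp [hp]

theorem pairRep_symbol_corner {n : ℕ} (x : Fin n → Lˣ) :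
    pairRep L hϖ n (symbol x) 0 0 =
        ρ κ n (symbol fun i => unitResidue A (unitPart L hϖ (x i))) ∧
      pairRep L hϖ n (symbol x) 0 1 = 0 ∧
      ((∀ i, ordU L hϖ (x i) = 0) → pairRep L hϖ n (symbol x) 1 0 = 0) := by
  induction n with
  | zero =>
    rw [pairRep, IsSym.rep_symbol, ρ_symbol]
    simp [IsSym.lprod]
  | succ n ih =>
    obtain ⟨h00, h01, h10⟩ := ih (Fin.tail x)
    have hx : symbol x = consK L n (.ofMul (x 0)) (symbol (Fin.tail x)) := by
      rw [consK_symbol, Fin.cons_self_tail]
    have hy : symbol (fun i => unitResidue A (unitPart L hϖ (x i))) =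
        consK κ n (.ofMul (unitResidue A (unitPart L hϖ (x 0))))
          (symbol fun i => unitResidue A (unitPart L hϖ (Fin.tail x i))) := by
      rw [consK_symbol]
      exact congrArg symbol (funext fun i => by cases i using Fin.cases <;> rfl)
    rw [hx, pairRep_consK, hy, ρ_consK, pairSym_ofMul]
    refine ⟨?_, ?_, fun h => ?_⟩
    · simp [Matrix.mul_apply, Fin.sum_univ_two, h00]
    · simp [Matrix.mul_apply, Fin.sum_univ_two, h01]
    · simp [Matrix.mul_apply, Fin.sum_univ_two, h10 (fun i => h i.succ), h 0]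

theorem specMap_symbol {n : ℕ} (x : Fin n → Lˣ) :
    specMap L hϖ n (symbol x) = symbol fun i => unitResidue A (unitPart L hϖ (x i)) := by
  simp only [specMap, AddMonoidHom.coe_comp, Function.comp_apply, Matrix.entryAddMonoidHom_apply,
    (pairRep_symbol_corner L hϖ x).1, coeff_ρ]

theorem specMap_isSpecMap (n : ℕ) : IsSpecMap A L ϖ hϖ n (specMap L hϖ n) := by
  intro e u
  rw [specMap_symbol]
  exact congrArg symbol (funext fun i => by rw [(ordU_unitPart_of_eq L hϖ rfl).2])

theorem tame_unit {n : ℕ} (u : Fin (n + 1) → Aˣ) :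
    tame L hϖ n (symbol fun i => unitToFrac A L (u i)) = 0 := by
  simp only [tame, AddMonoidHom.coe_comp, Function.comp_apply, Matrix.entryAddMonoidHom_apply,
    (pairRep_symbol_corner L hϖ fun i => unitToFrac A L (u i)).2.2
      (fun i => (ordU_unitPart_unit L hϖ _).1), map_zero]

theorem tame_cons {n : ℕ} (x : Lˣ) (u : Fin n → Aˣ) :
    tame L hϖ n (symbol (Fin.cons x fun i => unitToFrac A L (u i))) =
      ordU L hϖ x • symbol fun i => unitResidue A (u i) := by
  obtain ⟨h00, -, h10⟩ := pairRep_symbol_corner L hϖ fun i => unitToFrac A L (u i)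
  rw [← consK_symbol, tame]
  simp only [AddMonoidHom.coe_comp, Function.comp_apply, Matrix.entryAddMonoidHom_apply,
    pairRep_consK, pairSym_ofMul]
  simp [Matrix.mul_apply, Fin.sum_univ_two, h00, h10 (fun i => (ordU_unitPart_unit L hϖ _).1),
    (ordU_unitPart_unit L hϖ _).2]
  rw [← zsmul_eq_mul, map_zsmul, coeff_ρ]

theorem tame_isTameSymbol (n : ℕ) : IsTameSymbol A L n (tame L hϖ n) := by
  intro ϖ' hϖ' u
  rw [tame_cons]
  obtain ⟨w, hw⟩ := IsDiscreteValuationRing.associated_of_irreducible A hϖ hϖ'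
  have : ordU L hϖ (unitFrac A L ϖ' hϖ'.ne_zero) = 1 :=
    (ordU_unitPart_of_eq L hϖ (e := 1) (u := w) (Units.ext (by
      simp [coe_unitToFrac, ← hw, map_mul]))).1
  rw [this, one_smul]

omit hϖ in
theorem isTameSymbol_unit {n : ℕ} {d : K L (n + 1) →+ K κ n} (hd : IsTameSymbol A L n d)
    (u : Fin (n + 1) → Aˣ) : d (symbol fun i => unitToFrac A L (u i)) = 0 := by
  obtain ⟨p, hp⟩ := IsDiscreteValuationRing.exists_irreducible A
  have hpu : Irreducible (p * u 0 : A) := (irreducible_mul_isUnit (u 0).isUnit).mpr hp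
  have h1 := hd p hp (Fin.tail u)
  have h2 := hd _ hpu (Fin.tail u)
  have e : unitFrac A L (p * u 0) hpu.ne_zero =
      unitFrac A L p hp.ne_zero * unitToFrac A L (u 0) := Units.ext (by simp [coe_unitToFrac])
  rw [← consK_symbol, e, ofMul_mul, map_add, AddMonoidHom.add_apply, map_add, consK_symbol, h1,
    add_eq_left, consK_symbol] at h2
  rw [← h2]
  exact congrArg d (congrArg symbol (funext fun i => by cases i using Fin.cases <;> rfl))

theorem eq_tame {n : ℕ} {d : K L (n + 1) →+ K κ n} (hd : IsTameSymbol A L n d) :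
    d = tame L hϖ n :=
  hom_ext_tame L hϖ
    (fun u => by rw [isTameSymbol_unit L hd, tame_unit])
    (fun u => by rw [hd ϖ hϖ u, tame_isTameSymbol L hϖ n ϖ hϖ u])

theorem eq_specMap {n : ℕ} {s : K L n →+ K κ n} (hs : IsSpecMap A L ϖ hϖ n s) :
    s = specMap L hϖ n := by
  refine hom_ext fun x => ?_
  have h := hs (fun i => ordU L hϖ (x i)) fun i => unitPart L hϖ (x i)
  rw [specMap_symbol, ← h]
  exact congrArg s (congrArg symbol (funext fun i => decomp_eq L hϖ (x i)))

end Groth.Agent.MilnorK
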